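import Cfsg.Agent.H920.Rg.StmtN
import Cfsg.Agent.H826.Rg.NoAlphaT

/-!
# S3691, D+1 beta: the frame (helper826, piece N3 of helper920)
-/

set_option autoImplicit false
set_option linter.unusedSectionVars false

namespace Cfsg.Agent.H826.Rg920

open QuadraticMap Module Cfsg
open Cfsg.Agent.LieClassical.OrthCore Cfsg.Agent.LieClassical.OrthTrans
open Cfsg.Agent.ClassicalGeometry.OrthSemi Cfsg.Agent.H454.Reg Cfsg.Agent.H449.Reg
open Cfsg.Agent.H826.Rg
open Cfsg.Agent.H964.Rg (ResV)
open Cfsg.Agent.LieClassical.OrthFinite (glEquiv)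
open scoped MatrixGroups Matrix

universe u v

section

variable {F : Type*} {V : Type*} [Field F] [AddCommGroup V] [Module F V] {Q : QuadraticForm F V}
variable [Finite F] [FiniteDimensional F V]

/-- orbit and stabiliser of a vector -/
theorem card_orbit_stab (H : Subgroup (V ≃ₗ[F] V)) (v : V) :
    (MulAction.orbit H v).ncard * Nat.card (MulAction.stabilizer H v) = Nat.card H := by
  rw [← MulAction.index_stabilizer, mul_comm]
  exact Subgroup.card_mul_index _

/-- the norm stabiliser is transitive on the vectors of norm `c` -/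
theorem card_dvd_Gam {D : Subgroup (V ≃ₗ[F] V)} {c : F} {Γ : Subgroup (Gam Q)} (g : GD Q D c Γ)
    (hne : Nonempty {u : V // Q u = c}) : Nat.card {u : V // Q u = c} ∣ Nat.card Γ := by
  have hfV : Finite V := Module.finite_of_finite F
  let _ : MulAction (Gc Γ c) {u : V // Q u = c} :=
    { smul := fun M u => ⟨M.1.1.1 u.1, (M.2 u.1).1 u.2⟩
      one_smul := fun u => rfl
      mul_smul := fun a b u => rfl }
  obtain ⟨u0⟩ := hne
  have : MulAction.IsPretransitive (Gc Γ c) {u : V // Q u = c} := by
    refine ⟨fun u u' => ?_⟩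
    obtain ⟨M, hM, hMu⟩ := g.trans u.1 u'.1 u.2 u'.2
    obtain ⟨σ, d, hS⟩ := M.2
    have h1 : d * σ c = c := by
      have := hS.form u.1
      rw [hMu, u.2, u'.2] at this
      exact this.symm
    refine ⟨⟨⟨M, hM⟩, fun z => ?_⟩, Subtype.ext hMu⟩
    show Q z = c ↔ Q (M.1 z) = c
    rw [hS.form]
    constructor
    · intro hz
      rw [hz, h1]
    · intro hz
      rw [← h1] at hz
      have h2 := mul_left_cancel₀ hS.ne hz
      have h3 : σ (Q z) = σ c := h2
      exact σ.injective h3
  have h1 := MulAction.index_stabilizer_of_transitive (Gc Γ c) u0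
  have h2 : (MulAction.stabilizer (Gc Γ c) u0).index ∣ Nat.card (Gc Γ c) := Subgroup.index_dvd_card _
  rw [h1] at h2
  exact h2.trans (Subgroup.card_subgroup_dvd_card _)

/-- a central element of `E Q` has order prime to `p` -/
theorem pow_two_of_central {p : ℕ} [CharP F p] (hp : p.Prime) (hG : Good Q) {g : V ≃ₗ[F] V} (hg : g ∈ E Q)
    (hc : (⟨g, hg⟩ : ↥(E Q)) ∈ Subgroup.center ↥(E Q)) : g ^ 2 = 1 ∧ (p = 2 → g = 1) := by
  have h1 : conjE Q (lg ⟨g, hg⟩) = 1 := by
    ext x v
    obtain ⟨v, rfl⟩ := (lg (Q := Q) ⟨g, hg⟩).1.surjective v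
    rw [coe_conjE, conjLin_apply']
    have h2 := congrArg Subtype.val (Subgroup.mem_center_iff.1 hc x)
    have h3 := congrArg (fun z : V ≃ₗ[F] V => z v) h2
    exact h3.symm
  obtain ⟨a, ha0, ha⟩ := exists_scalar_of_conjE hG _ h1
  have ha' : ∀ v, g v = a • v := ha
  obtain ⟨z, hz⟩ : ∃ z, Q z ≠ 0 := by
    by_contra hcon
    push Not at hcon
    obtain ⟨x, hx0, -⟩ := hG.sing
    apply hx0
    apply hG.nondeg
    intro y
    have h2 := Q_add (Q := Q) x y
    rw [hcon, hcon, hcon, add_zero, zero_add] at h2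
    exact h2.symm
  have haa : a * a = 1 := by
    have h2 := E_le_O hg z
    rw [ha', QuadraticMap.map_smul, smul_eq_mul] at h2
    exact mul_right_cancel₀ hz (by rw [h2, one_mul])
  refine ⟨?_, ?_⟩
  · ext v
    rw [pow_two]
    show g (g v) = v
    rw [ha', ha', smul_smul, haa, one_smul]
  · rintro rfl
    have h3 : (a - 1) ^ 2 = 0 := by
      have h2 : (2 : F) = 0 := by exact_mod_cast CharP.cast_eq_zero F 2
      linear_combination haa - (a - 1) * h2
    have h4 : a = 1 := sub_eq_zero.1 (pow_eq_zero_iff (by norm_num) |>.1 h3)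
    ext v
    rw [ha', h4, one_smul]
    rfl

/-- `p` does not divide the order of a group of such elements -/
theorem fac_eq_zero {Z : Type*} [Group Z] [Finite Z] {p : ℕ} (hp : p.Prime) (h : ∀ z : Z, z ^ 2 = 1 ∧ (p = 2 → z = 1)) :
    (Nat.card Z).factorization p = 0 := by
  apply Nat.factorization_eq_zero_of_not_dvd
  intro hdvd
  have := Fact.mk hp
  obtain ⟨z, hz⟩ := exists_prime_orderOf_dvd_card' p hdvd
  obtain ⟨h1, h2⟩ := h z
  have h3 : orderOf z ∣ 2 := orderOf_dvd_of_pow_eq_one h1
  rw [hz] at h3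
  have h4 : p = 2 := (Nat.prime_dvd_prime_iff_eq hp Nat.prime_two).1 h3
  rw [h2 h4, orderOf_one] at hz
  exact hp.ne_one hz.symm

end

section

variable {G : Type u} [Group G] {T : Subgroup G} [T.Normal]
variable {F V : Type*} [Field F] [AddCommGroup V] [Module F V] {Q : QuadraticForm F V}
variable {e : T ≃* (↥(E Q) ⧸ Subgroup.center ↥(E Q))} {X : Subgroup G} [Finite F] [FiniteDimensional F V]

/-- the `p`-part of `|X ∩ T|` is that of the preimage -/
theorem fac_preE {p : ℕ} [CharP F p] (hp : p.Prime) (hG : Good Q) [Finite G] :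
    (Nat.card (X.subgroupOf T)).factorization p = (Nat.card (preE e X)).factorization p := by
  have hfV : Finite V := Module.finite_of_finite F
  have hfE : Finite (V ≃ₗ[F] V) := Finite.of_injective (fun e : V ≃ₗ[F] V => (e : V → V)) DFunLike.coe_injective
  have h1 : Nat.card (piE e X).ker * Nat.card (piE e X).range = Nat.card (preE e X) := by
    rw [← Subgroup.index_ker]
    exact Subgroup.card_mul_index _
  have h2 : Nat.card (X.subgroupOf T) = Nat.card (piE e X).range := by
    rw [card_subgroupOf]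
    have h3 : X ⊓ T = (piE e X).range := by
      ext x
      constructor
      · intro hx
        obtain ⟨d, rfl⟩ := exists_piE (e := e) hx
        exact ⟨d, rfl⟩
      · rintro ⟨d, rfl⟩
        exact piE_mem d
    rw [h3]
  have h4 : (Nat.card (piE e X).ker).factorization p = 0 := by
    refine fac_eq_zero hp fun z => ?_
    obtain ⟨h5, h6⟩ := pow_two_of_central hp hG z.1.2.1 (central_of_piE (MonoidHom.mem_ker.1 z.2))
    refine ⟨Subtype.ext (Subtype.ext h5), fun hp2 => Subtype.ext (Subtype.ext (h6 hp2))⟩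
  rw [h2, ← h1, Nat.factorization_mul Nat.card_pos.ne' Nat.card_pos.ne', Finsupp.add_apply, h4, zero_add]

/-- the `p`-part of `|T|` -/
theorem fac_T {p : ℕ} [CharP F p] (hp : p.Prime) (hG : Good Q) (e : T ≃* (↥(E Q) ⧸ Subgroup.center ↥(E Q))) :
    (Nat.card T).factorization p = (Nat.card (E Q)).factorization p := by
  have hfV : Finite V := Module.finite_of_finite F
  have hfE : Finite (V ≃ₗ[F] V) := Finite.of_injective (fun e : V ≃ₗ[F] V => (e : V → V)) DFunLike.coe_injective
  have h1 : Nat.card (Subgroup.center ↥(E Q)) * Nat.card T = Nat.card (E Q) := by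
    rw [Nat.card_congr e.toEquiv]
    exact Subgroup.card_mul_index _
  have h4 : (Nat.card (Subgroup.center ↥(E Q))).factorization p = 0 := by
    refine fac_eq_zero hp fun z => ?_
    obtain ⟨h5, h6⟩ := pow_two_of_central hp hG z.1.2 z.2
    refine ⟨Subtype.ext (Subtype.ext h5), fun hp2 => Subtype.ext (Subtype.ext (h6 hp2))⟩
  have hT : Nat.card T ≠ 0 := by
    rintro h0
    rw [h0, mul_zero] at h1
    exact Nat.card_pos.ne h1
  rw [← h1, Nat.factorization_mul Nat.card_pos.ne' hT, Finsupp.add_apply, h4, zero_add]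

end

section

variable {ι : Type} [Fintype ι] [DecidableEq ι] {F : Type v} [Field F] [Finite F] {Q : QuadraticForm F (ι → F)}
  {G : Type u} [Group G] [Finite G] {T : Subgroup G} [T.Normal] {hG : Good Q} {eT : T ≃* POmega F (⇑Q)} {X Y : Subgroup G}
  {hI : Ind (eP hG eT)} {v : ι → F}

/-- **the `p`-part of `|Y ∩ T|`** : `ν_p(#{u | Q u = Q v}) ≤ ν_p(|preE Y|) + ν_p(|G : T|)` -/
theorem fac_le {p : ℕ} [CharP F p] (hp : p.Prime) (hf : Fac T X Y) (hR : ResV hI X v) :
    (Nat.card {u : ι → F // Q u = Q v}).factorization p ≤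
      (Nat.card (preE (eP hG eT) Y)).factorization p + (T.index).factorization p := by
  have hfE : Finite ((ι → F) ≃ₗ[F] (ι → F)) :=
    Finite.of_injective (fun e : (ι → F) ≃ₗ[F] (ι → F) => (e : (ι → F) → (ι → F))) DFunLike.coe_injective
  have hv0 : v ≠ 0 := by
    rintro rfl
    exact hR.ne (QuadraticMap.map_zero Q)
  -- `E Q`
  have h1 := card_orbit_stab (E Q) v
  have h2 : (MulAction.orbit (E Q) v).ncard = Nat.card {u : ι → F // Q u = Q v} := by
    have h3 : MulAction.orbit (E Q) v = {u | Q u = Q v} := by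
      ext u
      constructor
      · rintro ⟨g, rfl⟩
        exact E_le_O g.2 v
      · intro hu
        have hu0 : u ≠ 0 := by
          rintro rfl
          have hu' : Q 0 = Q v := hu
          rw [QuadraticMap.map_zero] at hu'
          exact hR.ne hu'.symm
        obtain ⟨g, hg, hgu⟩ := hG.trans_norm hv0 hu0 (Eq.symm hu)
        exact ⟨⟨g, hg⟩, hgu⟩
    rw [h3]
    rfl
  -- `X`
  have h3 := card_orbit_stab (preE (eP hG eT) X) v
  have h4 : ((MulAction.orbit (preE (eP hG eT) X) v).ncard).factorization p = 0 := by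
    have hsub : MulAction.orbit (preE (eP hG eT) X) v ⊆ {v, -v} := by
      rintro _ ⟨g, rfl⟩
      have h5 := hR.fix _ g.2.2
      have h6 : act hI (((eP hG eT).symm (QuotientGroup.mk ⟨g.1, g.2.1⟩) : T) : G) (F ∙ v) =
          (F ∙ v).map (g.1 : (ι → F) →ₗ[F] (ι → F)) :=
        act_T hG hI (x := ⟨g.1, g.2.1⟩) (by rw [MulEquiv.apply_symm_apply]) _
      rw [h6] at h5
      have h7 : g.1 v ∈ F ∙ v := by
        rw [← h5]
        exact ⟨v, Submodule.mem_span_singleton_self v, rfl⟩
      obtain ⟨a, ha⟩ := Submodule.mem_span_singleton.1 h7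
      have h8 := E_le_O g.2.1 v
      rw [← ha, QuadraticMap.map_smul, smul_eq_mul] at h8
      have haa : a * a = 1 := mul_right_cancel₀ hR.ne (by rw [h8, one_mul])
      rcases mul_self_eq_one_iff.1 haa with rfl | rfl
      · left
        show g.1 v = v
        rw [← ha, one_smul]
      · right
        show g.1 v = -v
        rw [← ha, neg_smul, one_smul]
    by_cases hp2 : p = 2
    · subst hp2
      have h5 : -v = v := by
        have h2 : (2 : F) = 0 := by exact_mod_cast CharP.cast_eq_zero F 2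
        rw [neg_eq_iff_add_eq_zero, ← two_smul F v, h2, zero_smul]
      rw [h5, Set.pair_eq_singleton] at hsub
      have h6 : MulAction.orbit (preE (eP hG eT) X) v = {v} := by
        apply Set.Subset.antisymm hsub
        rintro _ rfl
        exact MulAction.mem_orbit_self _
      rw [h6, Set.ncard_singleton]
      simp
    · have h6 : (MulAction.orbit (preE (eP hG eT) X) v).ncard ≤ 2 :=
        (Set.ncard_le_ncard hsub).trans ((Set.ncard_insert_le _ _).trans (by rw [Set.ncard_singleton]))
      apply Nat.factorization_eq_zero_of_not_dvd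
      intro hd
      have h7 : 0 < (MulAction.orbit (preE (eP hG eT) X) v).ncard := by
        rw [Set.ncard_pos]
        exact ⟨v, MulAction.mem_orbit_self _⟩
      have h8 := Nat.le_of_dvd h7 hd
      have h9 := hp.two_le
      omega
  have h5 : Nat.card (MulAction.stabilizer (preE (eP hG eT) X) v) ∣ Nat.card (MulAction.stabilizer (E Q) v) := by
    let φ : MulAction.stabilizer (preE (eP hG eT) X) v →* MulAction.stabilizer (E Q) v :=
      { toFun := fun g => ⟨⟨g.1.1, g.1.2.1⟩, g.2⟩
        map_one' := rfl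
        map_mul' := fun _ _ => rfl }
    refine Subgroup.card_dvd_of_injective φ fun a b hab => ?_
    have h6 : (φ a).1.1 = (φ b).1.1 := by rw [hab]
    exact Subtype.ext (Subtype.ext h6)
  have h6 := hf.val_ge p
  -- use `|G : T|` instead of `|Out T|`
  obtain ⟨k, hk1, -, hk⟩ := hf.card0
  have hk0 : k ≠ 0 := by
    rintro rfl
    rw [mul_zero] at hk
    exact Nat.card_pos.ne hk
  have h7 := fac_preE (e := eP hG eT) (X := X) hp hG
  have h8 := fac_preE (e := eP hG eT) (X := Y) hp hG
  have h9 := fac_T hp hG (eP hG eT)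
  have hx : Nat.card (X.subgroupOf T) ≠ 0 := Nat.card_pos.ne'
  have hy : Nat.card (Y.subgroupOf T) ≠ 0 := Nat.card_pos.ne'
  rw [← hk, Nat.factorization_mul (mul_ne_zero hx hy) hk0, Nat.factorization_mul hx hy, Finsupp.add_apply,
    Finsupp.add_apply, h7, h8, ← h3, ← h1, h2] at h9
  have hn : Nat.card {u : ι → F // Q u = Q v} ≠ 0 := by
    have : Nonempty {u : ι → F // Q u = Q v} := ⟨⟨v, rfl⟩⟩
    exact Nat.card_pos.ne'
  have ho : (MulAction.orbit (preE (eP hG eT) X) v).ncard ≠ 0 := by
    rw [← pos_iff_ne_zero, Set.ncard_pos]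
    exact ⟨v, MulAction.mem_orbit_self _⟩
  have hs1 : Nat.card (MulAction.stabilizer (preE (eP hG eT) X) v) ≠ 0 := Nat.card_pos.ne'
  have hs2 : Nat.card (MulAction.stabilizer (E Q) v) ≠ 0 := Nat.card_pos.ne'
  rw [Nat.factorization_mul ho hs1, Nat.factorization_mul hn hs2, Finsupp.add_apply, Finsupp.add_apply, h4, zero_add] at h9
  have h10 := (Nat.factorization_le_iff_dvd hs1 hs2).2 h5 p
  have hi : T.index ≠ 0 := by
    rw [Subgroup.index]
    exact Nat.card_pos.ne'
  have h11 := (Nat.factorization_le_iff_dvd hk0 hi).2 hk1 p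
  omega

end

/-- piece N3 -/
theorem bt : H920.Rg.StmtBt.{u, v} := by
  intro ι _ _ F _ _ Q G _ _ T _ hG eT hI X Y v hf hR p f m r hp hf1 hF hι hm hsz hr hord hrY hcore hcnt hidx
  have hn7 : 7 ≤ Fintype.card ι := by omega
  have hgd := gd hf hR
  have hld := ld hn7 hf hR hp hF hι hr hord hrY
  have hch : CharP F p := hld.charP
  have e1 : (p ^ f) ^ (m - 1) * ((p ^ f) ^ m - 1) = p ^ (f * (m - 1)) * (p ^ (f * m) - 1) := by
    rw [← pow_mul, ← pow_mul]
  rw [e1] at hcnt
  have hfm : 0 < f * m := Nat.mul_pos hf1 (by omega)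
  have hpos : p ^ (f * m) - 1 ≠ 0 := by
    have := Nat.one_lt_pow hfm.ne' hp.one_lt
    omega
  have hfac : (Nat.card {u : ι → F // Q u = Q v}).factorization p = f * (m - 1) := by
    rw [hcnt, Nat.factorization_mul (pow_ne_zero _ hp.ne_zero) hpos, Finsupp.add_apply, hp.factorization_pow,
      Finsupp.single_eq_same, Nat.factorization_eq_zero_of_not_dvd, add_zero]
    intro h3
    have h4 : p ∣ p ^ (f * m) := dvd_pow_self p hfm.ne'
    have h6 : p ∣ p ^ (f * m) - (p ^ (f * m) - 1) := Nat.dvd_sub h4 h3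
    have h7 : p ^ (f * m) - (p ^ (f * m) - 1) = 1 := by
      have : 1 ≤ p ^ (f * m) := Nat.one_le_pow _ _ hp.pos
      omega
    rw [h7] at h6
    exact hp.one_lt.ne' (Nat.dvd_one.1 h6)
  exact
    { good := hG
      prime := hp
      rprime := hr
      fpos := hf1
      hm := hm
      sz := hsz
      cardF := hF
      dim := by rw [Module.finrank_fintype_fun_eq_card, hι]
      ord := hord
      le := preE_le_E
      hc := hR.ne
      free := hld.free
      rK := hld.rD
      dvd := by
        rw [card_preE, ← hcnt]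
        exact card_dvd_norm hn7 hf hR
      val := by
        have h1 := fac_le hp hf hR
        rw [hfac] at h1
        omega
      core := by
        rw [pCore, eq_bot_iff]
        refine sSup_le ?_
        rintro N ⟨hNn, hNp⟩
        have h1 := hcore ((N.map (preE (eP hG eT) Y).subtype).map (glEquiv ι F).symm.toMonoidHom) ?_ ?_ ?_
        · rw [Subgroup.map_eq_bot_iff_of_injective _ (glEquiv ι F).symm.injective,
            Subgroup.map_eq_bot_iff_of_injective _ (Subgroup.subtype_injective _)] at h1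
          rw [h1]
        · rintro _ ⟨_, ⟨n, hn, rfl⟩, rfl⟩
          exact mem_preE_iff'.1 n.2
        · rintro g hg _ ⟨_, ⟨n, hn, rfl⟩, rfl⟩
          have hg' : glEquiv ι F g ∈ preE (eP hG eT) Y := mem_preE_iff.2 hg
          refine ⟨_, ⟨⟨glEquiv ι F g, hg'⟩ * n * ⟨glEquiv ι F g, hg'⟩⁻¹, hNn.conj_mem n hn _, rfl⟩, ?_⟩
          show (glEquiv ι F).symm (glEquiv ι F g * n.1 * (glEquiv ι F g)⁻¹) = g * (glEquiv ι F).symm n.1 * g⁻¹
          rw [map_mul, map_mul, map_inv, MulEquiv.symm_apply_apply]
        · exact (hNp.map _).map _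
      conj := fun M hM k hk => hgd.conj_mem hM hk
      mem := fun k hk => (hgd.mem k).1 hk
      valG := by
        intro _
        have h1 := card_dvd_Gam hgd ⟨⟨v, rfl⟩⟩
        rw [hcnt] at h1
        exact (Dvd.intro _ rfl).trans h1 }

end Cfsg.Agent.H826.Rg920
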