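import Cfsg.Agent.H920.Rg.StmtN

/-!
# S3691, D+1 beta: the number of vectors of norm `c` (helper826, piece N2 of helper920)
-/

set_option autoImplicit false
set_option linter.unusedSectionVars false

namespace Cfsg.Agent.H826.Rg920

open QuadraticMap Module
open Cfsg.Agent.LieClassical.OrthCore Cfsg.Agent.LieClassical.OrthTrans
open Cfsg.Agent.H826.Rg

universe u v

section

variable {F V : Type*} [Field F] [AddCommGroup V] [Module F V] {Q : QuadraticForm F V} [Finite F] [FiniteDimensional F V]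

/-- vectors dual to the cosets of a maximal totally isotropic subspace -/
theorem exists_dual {W : Submodule F V} (hpp : pp Q W = W) : ∃ ω : V ⧸ W → V, ∀ u, u ∉ W →
    ω (Submodule.Quotient.mk u) ∈ W ∧ polar Q u (ω (Submodule.Quotient.mk u)) = 1 := by
  classical
  have hB : ∀ w ∈ W, ∀ w' ∈ W, polar Q w w' = 0 := by
    intro w hw w' hw'
    rw [← hpp] at hw'
    exact hw' w hw
  have key : ∀ x : V ⧸ W, ∃ w, ∀ u, Submodule.Quotient.mk u = x → u ∉ W → w ∈ W ∧ polar Q u w = 1 := by
    intro x
    obtain ⟨u0, rfl⟩ := Submodule.Quotient.mk_surjective _ x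
    by_cases hu0 : u0 ∈ W
    · refine ⟨0, fun u hu hun => ?_⟩
      exfalso
      apply hun
      rw [Submodule.Quotient.eq] at hu
      have := W.add_mem hu hu0
      rwa [sub_add_cancel] at this
    · obtain ⟨w, hw, hw0⟩ : ∃ w ∈ W, polar Q w u0 ≠ 0 := by
        by_contra hcon
        push Not at hcon
        apply hu0
        rw [← hpp]
        exact hcon
      have hw0' : polar Q u0 w ≠ 0 := by rw [polar_comm]; exact hw0
      refine ⟨(polar Q u0 w)⁻¹ • w, fun u hu _ => ⟨W.smul_mem _ hw, ?_⟩⟩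
      rw [Submodule.Quotient.eq] at hu
      have h1 : polar Q u w = polar Q u0 w := by
        have h2 := hB _ hu w hw
        rw [polar_sub_left] at h2
        exact sub_eq_zero.1 h2
      rw [polar_smul_right, smul_eq_mul, h1, inv_mul_cancel₀ hw0']
  choose ω hω using key
  exact ⟨ω, fun u hu => hω _ u rfl hu⟩

/-- **the number of vectors of norm `c ≠ 0`** -/
theorem card_norm {q m : ℕ} {c : F} (hQ : Nondeg Q) (hF : Nat.card F = q) (hV : finrank F V = 2 * m) (hm : 1 ≤ m) (hc : c ≠ 0)
    {W : Submodule F V} (hW : finrank F W = m) (hs : ∀ x ∈ W, Q x = 0) :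
    Nat.card {u : V // Q u = c} = q ^ (m - 1) * (q ^ m - 1) := by
  classical
  have hfV : Finite V := Module.finite_of_finite F
  have hB : ∀ w ∈ W, ∀ w' ∈ W, polar Q w w' = 0 := by
    intro w hw w' hw'
    have h1 := Q_add (Q := Q) w w'
    rw [hs _ (W.add_mem hw hw'), hs w hw, hs w' hw', zero_add, zero_add] at h1
    exact h1.symm
  have hpp : pp Q W = W := by
    symm
    apply Submodule.eq_of_le_of_finrank_eq
    · intro w' hw' w hw
      exact hB w hw w' hw'
    · rw [finrank_pp hQ, hV, hW]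
      omega
  obtain ⟨ω, hω⟩ := exists_dual hpp
  have hnW : ∀ u, Q u = c → u ∉ W := fun u hu hu' => hc (by rw [← hu, hs u hu'])
  have hmk : ∀ (u w : V), w ∈ W → (Submodule.Quotient.mk (u + w) : V ⧸ W) = Submodule.Quotient.mk u := by
    intro u w hw
    rw [Submodule.Quotient.eq, add_sub_cancel_left]
    exact hw
  have hadd : ∀ (u : V), u ∉ W → ∀ t : F, u + t • ω (Submodule.Quotient.mk u) ∉ W := by
    intro u hu t h1
    apply hu
    have := W.sub_mem h1 (W.smul_mem t (hω u hu).1)
    rwa [add_sub_cancel_right] at this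
  have hQ' : ∀ (u : V), u ∉ W → ∀ t : F, Q (u + t • ω (Submodule.Quotient.mk u)) = Q u + t := by
    intro u hu t
    rw [Q_add, QuadraticMap.map_smul, hs _ (hω u hu).1, polar_smul_right, (hω u hu).2]
    simp
  let e : {u : V // u ∉ W} ≃ {u : V // Q u = c} × F :=
    { toFun := fun u => (⟨u.1 + (c - Q u.1) • ω (Submodule.Quotient.mk u.1), by
        rw [hQ' _ u.2, add_sub_cancel]⟩, Q u.1)
      invFun := fun x => ⟨x.1.1 + (x.2 - c) • ω (Submodule.Quotient.mk x.1.1), hadd _ (hnW _ x.1.2) _⟩
      left_inv := fun u => by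
        apply Subtype.ext
        show u.1 + (c - Q u.1) • ω (Submodule.Quotient.mk u.1) +
          (Q u.1 - c) • ω (Submodule.Quotient.mk (u.1 + (c - Q u.1) • ω (Submodule.Quotient.mk u.1))) = u.1
        rw [hmk _ _ (W.smul_mem _ (hω u.1 u.2).1)]
        module
      right_inv := fun x => by
        obtain ⟨⟨u, hu⟩, t⟩ := x
        have h1 : Q (u + (t - c) • ω (Submodule.Quotient.mk u)) = t := by rw [hQ' _ (hnW u hu), hu]; ring
        refine Prod.ext (Subtype.ext ?_) h1
        show u + (t - c) • ω (Submodule.Quotient.mk u) + (c - Q (u + (t - c) • ω (Submodule.Quotient.mk u))) •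
          ω (Submodule.Quotient.mk (u + (t - c) • ω (Submodule.Quotient.mk u))) = u
        rw [h1, hmk _ _ (W.smul_mem _ (hω u (hnW u hu)).1)]
        module }
  have h1 := Nat.card_congr e
  rw [Nat.card_prod] at h1
  have h2 : Nat.card {u : V // u ∉ W} = q ^ (2 * m) - q ^ m := by
    have h3 : Nat.card {u : V // u ∉ W} = Nat.card V - Nat.card W := by
      have := Fintype.ofFinite V
      have := Fintype.ofFinite W
      rw [Nat.card_eq_fintype_card, Nat.card_eq_fintype_card, Nat.card_eq_fintype_card, Fintype.card_subtype_compl]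
    rw [h3, Module.natCard_eq_pow_finrank (K := F) (V := V), Module.natCard_eq_pow_finrank (K := F) (V := W), hF, hV, hW]
  rw [h2, hF] at h1
  have hq : 0 < q := by rw [← hF]; exact Nat.card_pos
  apply Nat.eq_of_mul_eq_mul_right hq
  obtain ⟨k, rfl⟩ : ∃ k, m = k + 1 := ⟨m - 1, by omega⟩
  rw [← h1, Nat.add_sub_cancel, Nat.mul_sub, mul_one, Nat.sub_mul]
  have e1 : q ^ k * q ^ (k + 1) * q = q ^ (2 * (k + 1)) := by ring
  have e2 : q ^ k * q = q ^ (k + 1) := by ring
  rw [e1, e2]

end

/-- piece N2 -/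
theorem cnt : H920.Rg.StmtCnt.{u, v} := by
  intro F V _ _ _ _ _ Q q m c hQ hF hV hm hc ⟨D, hD, hs⟩
  exact card_norm hQ hF hV hm hc hD hs

end Cfsg.Agent.H826.Rg920
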